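import Groth.Prelude.Def_AnFib
import Groth.Agent.Lib.AmpleFib.Proper
import Groth.Agent.Lib.CurveAmple18.Main
import Groth.Agent.Lib.CurveAmple18.Cartier
import Groth.Agent.Lib.CurveTwist13.PullIdeal
import Groth.Agent.Lib.CubeField.DivSection
import Groth.Agent.Lib.RelAmple18.UnivClosed
import Groth.Agent.Lib.CurveCartier25.RelDim
import Groth.Agent.Lib.CurveCartier25.Scheme
import Groth.Agent.Lib.CurveLocus.GeomFibre
import Groth.Agent.Lib.VB17.Setup
import Groth.Agent.Lib.SmoothReg17.Basic
import Groth.Agent.Lib.CurveCoh17.AffPush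
import Groth.Agent.Lib.ProjSpace.Basic
import Groth.Agent.S8847
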