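import Groth.Agent.Lib.ElemFib4.Imports

/-!
# Elementary fibrations are affine and surjective
-/

set_option autoImplicit false
set_option linter.style.haveILetI false
set_option linter.unusedSectionVars false
set_option backward.isDefEq.respectTransparency false

universe u

open CategoryTheory CategoryTheory.Limits AlgebraicGeometry TopologicalSpace

noncomputable section

namespace Groth.Agent.ElemFib4

open Groth.Agent

/-- The structure sheaf of a nonempty closed subscheme has a non-zero section. -/
theorem finrank_quotMod_pos {k : Type u} [Field k] {C : Scheme.{u}} [C.Over (Spec (CommRingCat.of k))]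
    [IsProper (C ↘ (Spec (CommRingCat.of k)))] (hd : topologicalKrullDim C ≤ 1) (J : C.IdealSheafData)
    (hne : Nonempty (J.subscheme : Type u)) :
    0 < Module.finrank k (Coh.HH C (ClSub.quotMod J) 0) := by
  have hC := CurveAmple18.curveLike k C hd
  haveI := hC.noetherian
  haveI : Module.Finite k (Coh.HH C (ClSub.quotMod J) 0) := hC.fin _ (CurveCoh17.isCoh_quotMod J) 0
  letI : J.subscheme.Over (Spec (CommRingCat.of k)) := ⟨J.subschemeι ≫ (C ↘ Spec (CommRingCat.of k))⟩
  haveI : (Coh.structureModule J.subscheme).IsQuasicoherent := M1.isQCoh_structureModule _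
  have e := (CurveCoh17.nonempty_hequiv_push k J.subschemeι rfl (Coh.structureModule J.subscheme) 0).some
  haveI : Nontrivial Γ(J.subscheme, ⊤) := by
    haveI : Nonempty ((⊤ : J.subscheme.Opens) : Set J.subscheme) := ⟨⟨hne.some, trivial⟩⟩
    infer_instance
  haveI : Nontrivial Γ(Coh.structureModule J.subscheme, ⊤) := inferInstanceAs (Nontrivial Γ(J.subscheme, ⊤))
  haveI : Nontrivial (Coh.HH J.subscheme (Coh.structureModule J.subscheme) 0) :=
    (CurveCoh17.hh0 (Coh.structureModule J.subscheme)).toEquiv.nontrivial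
  haveI : Nontrivial (Coh.HH C (ClSub.quotMod J) 0) := e.toEquiv.nontrivial
  exact Module.finrank_pos

variable {Xb S : Scheme.{u}} (fb : Xb ⟶ S) [IsProper fb] [Smooth fb]

/-- Fibres of a smooth proper morphism with geometric fibres irreducible curves are integral curves. -/
theorem fibre_curve (hgeo : ∀ (Ω : Type u) [Field Ω] [IsAlgClosed Ω] (σ : Spec (CommRingCat.of Ω) ⟶ S),
      IrreducibleSpace ↥(pullback fb σ) ∧ topologicalKrullDim ↥(pullback fb σ) = 1) (s : S) :
    IsIntegral (fb.fiber s) ∧ topologicalKrullDim (fb.fiber s) = 1 := by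
  let κ : Type u := S.residueField s
  let q : fb.fiber s ⟶ Spec (CommRingCat.of κ) := fb.fiberToSpecResidueField s
  haveI : Smooth q := by
    show Smooth (pullback.snd fb (S.fromSpecResidueField s))
    infer_instance
  haveI : IsProper q := by
    show IsProper (pullback.snd fb (S.fromSpecResidueField s))
    infer_instance
  let τ : Spec (CommRingCat.of (AlgebraicClosure κ)) ⟶ Spec (CommRingCat.of κ) :=
    Spec.map (CommRingCat.ofHom (algebraMap κ (AlgebraicClosure κ)))
  haveI : Surjective τ := ⟨fun x => by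
    haveI : Subsingleton (Spec (CommRingCat.of κ)) := inferInstanceAs (Subsingleton (PrimeSpectrum κ))
    haveI : Nonempty (Spec (CommRingCat.of (AlgebraicClosure κ))) :=
      inferInstanceAs (Nonempty (PrimeSpectrum (AlgebraicClosure κ)))
    exact ⟨Classical.arbitrary _, Subsingleton.elim (α := Spec (CommRingCat.of κ)) _ _⟩⟩
  obtain ⟨hirr, hdim⟩ := hgeo (AlgebraicClosure κ) (τ ≫ S.fromSpecResidueField s)
  let ε : pullback q τ ≅ pullback fb (τ ≫ S.fromSpecResidueField s) :=
    pullbackLeftPullbackSndIso fb (S.fromSpecResidueField s) τ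
  let H := ε.inv.homeomorph
  haveI := hirr
  have hsurj : Function.Surjective (ε.inv ≫ pullback.fst q τ) := by
    haveI : Surjective (pullback.fst q τ) := MorphismProperty.pullback_fst _ _ inferInstance
    exact (inferInstance : Surjective (ε.inv ≫ pullback.fst q τ)).surj
  haveI : IrreducibleSpace (fb.fiber s) := by
    have h := (IrreducibleSpace.isIrreducible_univ _).image _ (ε.inv ≫ pullback.fst q τ).continuous.continuousOn
    rw [Set.image_univ, hsurj.range_eq] at h
    exact irreducibleSpace_def _ |>.2 h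
  have hdimC : topologicalKrullDim (fb.fiber s) = 1 := by
    rw [← CurveLocus.topologicalKrullDim_bc q (IsPullback.of_hasPullback q τ), ← hdim]
    exact IsHomeomorph.topologicalKrullDim_eq _ ε.hom.homeomorph.isHomeomorph
  refine ⟨?_, hdimC⟩
  letI : (fb.fiber s).Over (Spec (CommRingCat.of κ)) := ⟨q⟩
  haveI : LocallyOfFiniteType ((fb.fiber s) ↘ Spec (CommRingCat.of κ)) := inferInstanceAs (LocallyOfFiniteType q)
  haveI : QuasiCompact ((fb.fiber s) ↘ Spec (CommRingCat.of κ)) := inferInstanceAs (QuasiCompact q)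
  haveI := VB17.isNoetherian_of_over (k := κ) (X := fb.fiber s)
  exact VB17.isIntegral_of_connected fun x => SmoothReg17.isDomain_stalk q x

/-- A subscheme finite flat of finite presentation, surjective over the base, of a smooth proper family of
geometrically irreducible curves has affine complement over affine opens. -/
theorem isAffineOpen_compl (hgeo : ∀ (Ω : Type u) [Field Ω] [IsAlgClosed Ω] (σ : Spec (CommRingCat.of Ω) ⟶ S),
      IrreducibleSpace ↥(pullback fb σ) ∧ topologicalKrullDim ↥(pullback fb σ) = 1)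
    (I : Xb.IdealSheafData) [IsFinite (I.subschemeι ≫ fb)] [Flat (I.subschemeι ≫ fb)]
    [LocallyOfFinitePresentation (I.subschemeι ≫ fb)] [Surjective (I.subschemeι ≫ fb)]
    {W : S.Opens} (hW : IsAffineOpen W) :
    IsAffineOpen (fb ⁻¹ᵁ W ⊓ ⟨(I.support : Set Xb)ᶜ, I.support.isClosed.isOpen_compl⟩ : Xb.Opens) := by
  have hfib : ∀ s : S, BlowUp.IsEffCartierIdeal (I.comap (fb.fiberι s)) ∧
      Nonempty ((I.comap (fb.fiberι s)).subscheme : Type u) := by
    intro s
    obtain ⟨hint, hdim⟩ := fibre_curve fb hgeo s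
    let κ : Type u := S.residueField s
    let q : fb.fiber s ⟶ Spec (CommRingCat.of κ) := fb.fiberToSpecResidueField s
    haveI : Smooth q := by
      show Smooth (pullback.snd fb (S.fromSpecResidueField s))
      infer_instance
    haveI := hint
    haveI := CurveCartier25.smoothOfRelativeDimension_one q hdim
    have sq : IsPullback (pullback.snd (fb.fiberι s) I.subschemeι) (pullback.fst (fb.fiberι s) I.subschemeι ≫ q)
        (I.subschemeι ≫ fb) (S.fromSpecResidueField s) :=
      (IsPullback.of_hasPullback (fb.fiberι s) I.subschemeι).flip.paste_vert (IsPullback.of_hasPullback fb _)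
    have hι : (I.comap (fb.fiberι s)).subschemeι ≫ q =
        (I.comapIso (fb.fiberι s)).hom ≫ pullback.fst (fb.fiberι s) I.subschemeι ≫ q := by
      rw [Scheme.IdealSheafData.comapIso_hom_fst_assoc]
    have h1 : IsFinite (pullback.fst (fb.fiberι s) I.subschemeι ≫ q) :=
      MorphismProperty.of_isPullback sq inferInstance
    have h2 : Flat (pullback.fst (fb.fiberι s) I.subschemeι ≫ q) :=
      MorphismProperty.of_isPullback sq inferInstance
    have h3 : LocallyOfFinitePresentation (pullback.fst (fb.fiberι s) I.subschemeι ≫ q) :=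
      MorphismProperty.of_isPullback sq inferInstance
    have h4 : Surjective (pullback.fst (fb.fiberι s) I.subschemeι ≫ q) :=
      MorphismProperty.of_isPullback sq inferInstance
    refine ⟨CurveCartier25.isEffCartierIdeal q _ (by rw [hι]; infer_instance) (by rw [hι]; infer_instance)
      (by rw [hι]; infer_instance), ?_⟩
    haveI : Nonempty (Spec (CommRingCat.of κ)) := inferInstanceAs (Nonempty (PrimeSpectrum κ))
    obtain ⟨z, -⟩ := h4.surj (Classical.arbitrary _)
    exact ⟨(I.comapIso (fb.fiberι s)).inv z⟩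
  have hI : BlowUp.IsEffCartierIdeal I := Groth.Agent.S8847.result fb I fun s => (hfib s).1
  obtain ⟨N, hN, ⟨e⟩, σ, hσ⟩ := CubeField.exists_inverse_section_of_effCartier hI
  have hamp : RelAmple.IsRelAmple fb N := by
    rw [AmpleFib.isRelAmple_iff_fibres fb hN]
    intro s
    obtain ⟨hint, hdim⟩ := fibre_curve fb hgeo s
    obtain ⟨hJ, hne⟩ := hfib s
    let κ : Type u := S.residueField s
    letI : (fb.fiber s).Over (Spec (CommRingCat.of κ)) := ⟨fb.fiberToSpecResidueField s⟩
    haveI : IsProper ((fb.fiber s) ↘ Spec (CommRingCat.of κ)) := by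
      show IsProper (pullback.snd fb (S.fromSpecResidueField s))
      infer_instance
    haveI := hint
    have hX := CurveAmple18.curveLike κ (fb.fiber s) hdim.le
    obtain ⟨e'⟩ := CurveTwist13.nonempty_pullback_idealMod_iso (fb.fiberι s) hI hJ
    let ε : CohB1.tensorMod (ClSub.idealMod (I.comap (fb.fiberι s))) ((Scheme.Modules.pullback (fb.fiberι s)).obj N) ≅
        Coh.structureModule (fb.fiber s) :=
      M2.tensorIso e'.symm (Iso.refl _) ≪≫ (M2.pullTensorIso (fb.fiberι s) _ _).symm ≪≫
        (Scheme.Modules.pullback (fb.fiberι s)).mapIso e ≪≫ PicLoc.pullbackStructureIso _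
    refine CurveAmple18.isAmple_of_deg_pos (k := κ) hdim.le (PicLoc.isInvertible_pullback _ hN) ?_
    rw [hX.deg_of_tensor_iso (M2.isInvertible_idealMod _ hJ) (PicLoc.isInvertible_pullback _ hN) ε,
      CurveAmple18.deg_idealMod hdim.le hJ, neg_neg]
    exact_mod_cast finrank_quotMod_pos hdim.le _ hne
  let U : Xb.Opens := fb ⁻¹ᵁ W
  haveI : IsAffine W.toScheme := hW
  haveI : UniversallyClosed (fb ∣_ W) := IsZariskiLocalAtTarget.restrict (P := @UniversallyClosed) inferInstance W
  have hA : CohB1.IsAmple ((Scheme.Modules.pullback U.ι).obj N) :=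
    (RA.isAmple_iso_iff ((Scheme.Modules.restrictFunctorIsoPullback U.ι).app N)).1 (hamp.2 ⟨W, hW⟩)
  have h := RA.isAffineOpen_genLocus_of_universallyClosed (fb ∣_ W) hA
    ((PicLoc.pullbackStructureIso U.ι).symm.hom ≫ (Scheme.Modules.pullback U.ι).map σ)
  rw [Amp.genLocus_pullback U.ι hN σ] at h
  have h' := h.image_of_isOpenImmersion U.ι
  convert h' using 1
  ext x
  simp only [Opens.coe_inf, Set.mem_inter_iff, SetLike.mem_coe]
  constructor
  · rintro ⟨hx, hx'⟩
    exact ⟨⟨x, hx⟩, (show x ∈ (CohB1.genLocus N σ : Set Xb) by rw [hσ]; exact hx'), rfl⟩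
  · rintro ⟨z, hz, rfl⟩
    refine ⟨z.2, ?_⟩
    show (U.ι z) ∈ (I.support : Set Xb)ᶜ
    rw [← hσ]
    exact hz

omit [IsProper fb] [Smooth fb] in
/-- An elementary fibration is affine and surjective. -/
theorem isAffineHom_and_surjective {X : Scheme.{u}} (f : X ⟶ S) (hf : An.IsElementaryFibration f) :
    IsAffineHom f ∧ Surjective f := by
  obtain ⟨Xb, Y, j, fb, i, rfl, hj, hi, hrange, hdense, hsm, ⟨n, c, hc, rfl⟩, hgeo, hfin, het, hsurj⟩ := hf
  set fb := c ≫ CohB1.ProjSpaceOver.toBase n S with hfb
  haveI : IsProper fb := by rw [hfb]; infer_instance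
  haveI := hsm
  refine ⟨?_, ?_⟩
  · haveI : Etale (i ≫ fb) := het
    haveI : IsFinite (i ≫ fb) := hfin
    haveI : Surjective (i ≫ fb) := ⟨hsurj⟩
    have hP : ∀ (P : MorphismProperty Scheme.{u}) [P.RespectsIso], P (i ≫ fb) → P (i.ker.subschemeι ≫ fb) := by
      intro P _ h
      rw [← P.cancel_left_of_respectsIso i.toImage, ← Category.assoc, i.toImage_imageι]
      exact h
    haveI : IsFinite (i.ker.subschemeι ≫ fb) := hP @IsFinite inferInstance
    haveI : Flat (i.ker.subschemeι ≫ fb) := hP @Flat inferInstance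
    haveI : LocallyOfFinitePresentation (i.ker.subschemeι ≫ fb) := hP @LocallyOfFinitePresentation inferInstance
    haveI : Surjective (i.ker.subschemeι ≫ fb) := hP @Surjective inferInstance
    have hsupp : (i.ker.support : Set Xb) = Set.range i.base := by
      rw [Scheme.Hom.support_ker, i.isClosedEmbedding.isClosed_range.closure_eq]
    refine ⟨fun W hW => ?_⟩
    have h := isAffineOpen_compl fb hgeo i.ker hW
    have heq : (j ≫ fb) ⁻¹ᵁ W = j ⁻¹ᵁ (fb ⁻¹ᵁ W ⊓ ⟨(i.ker.support : Set Xb)ᶜ, i.ker.support.isClosed.isOpen_compl⟩) := by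
      ext x
      simp only [Scheme.Hom.comp_preimage, Opens.map_coe, Set.mem_preimage, Opens.coe_inf, Set.mem_inter_iff]
      refine ⟨fun hx => ⟨hx, ?_⟩, fun hx => hx.1⟩
      show j x ∈ (i.ker.support : Set Xb)ᶜ
      rw [hsupp, ← hrange]
      exact Set.mem_range_self x
    rw [heq]
    refine h.preimage_of_isOpenImmersion j ?_
    intro x hx
    show x ∈ Set.range j.base
    rw [hrange, ← hsupp]
    exact hx.2
  · refine ⟨fun s => ?_⟩
    obtain ⟨y, hy⟩ := hsurj s
    have hy' : i y ∈ fb.base ⁻¹' {s} := hy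
    obtain ⟨x, ⟨x', rfl⟩, hx⟩ : (Set.range j.base ∩ fb.base ⁻¹' {s}).Nonempty := by
      by_contra hne
      rw [Set.not_nonempty_iff_eq_empty] at hne
      have := hdense s hy'
      rw [hne, closure_empty] at this
      exact this
    exact ⟨x', hx⟩

end Groth.Agent.ElemFib4
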